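import Groth.Prelude.Def_TopMod
import Groth.Prelude.Def_LinTop
import Mathlib

/-! Deduced topologies, formally left invertible maps. -/

set_option autoImplicit false

universe u v w

open scoped Topology

namespace Groth.Agent.TopModLib

variable {A : Type u} [CommRing A] [TopologicalSpace A] {M : Type v} [AddCommGroup M] [Module A M]
  [TopologicalSpace M] {N : Type w} [AddCommGroup N] [Module A N] [TopologicalSpace N]

theorem mem_nhds (hM : TopMod.IsDeduced A M) {J : Ideal A} (hJ : IsOpen (J : Set A)) :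
    ((J • ⊤ : Submodule A M) : Set M) ∈ 𝓝 0 :=
  hM.2.mem_of_mem hJ

theorem isOpen_smul (hM : TopMod.IsDeduced A M) {J : Ideal A} (hJ : IsOpen (J : Set A)) :
    IsOpen ((J • ⊤ : Submodule A M) : Set M) :=
  haveI := hM.1
  AddSubgroup.isOpen_of_mem_nhds (J • ⊤ : Submodule A M).toAddSubgroup (mem_nhds hM hJ)

theorem continuous_of_ker (hM : TopMod.IsDeduced A M) {E : Type*} [AddCommGroup E] [TopologicalSpace E]
    [DiscreteTopology E] (f : M →+ E) {J : Ideal A} (hJ : IsOpen (J : Set A))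
    (h : ∀ x ∈ (J • ⊤ : Submodule A M), f x = 0) : Continuous f := by
  haveI := hM.1
  refine continuous_of_continuousAt_zero f ?_
  rw [ContinuousAt, map_zero, nhds_discrete E, Filter.tendsto_pure]
  exact Filter.eventually_of_mem (mem_nhds hM hJ) h

theorem exists_open_of_continuous (hM : TopMod.IsDeduced A M) {E : Type*} [AddCommGroup E] [Module A E]
    [TopologicalSpace E] [DiscreteTopology E] (v : M →L[A] E) :
    ∃ J : Ideal A, IsOpen (J : Set A) ∧ (J • ⊤ : Submodule A M) ≤ LinearMap.ker v.toLinearMap := by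
  have h : v ⁻¹' {0} ∈ 𝓝 (0 : M) := v.continuous.continuousAt.preimage_mem_nhds (by
    rw [map_zero, nhds_discrete E]; rfl)
  obtain ⟨J, hJ, hsub⟩ := hM.2.mem_iff.1 h
  exact ⟨J, hJ, hsub⟩

theorem kills_smul {J : Ideal A} {E : Type*} [AddCommGroup E] [Module A E] (w : N →ₗ[A] E)
    (hE : J • (⊤ : Submodule A E) = ⊥) : ∀ y ∈ (J • ⊤ : Submodule A N), w y = 0 := fun y hy => by
  have h : w y ∈ (J • (⊤ : Submodule A N)).map w := ⟨y, hy, rfl⟩
  rw [Submodule.map_smul''] at h
  have h' := Submodule.smul_mono (le_refl J) (le_top : (⊤ : Submodule A N).map w ≤ ⊤) h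
  rw [hE] at h'
  exact h'

theorem smul_quot_eq_bot (J : Ideal A) : J • (⊤ : Submodule A (M ⧸ (J • ⊤ : Submodule A M))) = ⊥ := by
  rw [← Submodule.range_mkQ (J • ⊤ : Submodule A M), ← Submodule.map_top, ← Submodule.map_smul'',
    Submodule.mkQ_map_self]

theorem isFormallyLeftInvertible_iff (hM : TopMod.IsDeduced A M) (hN : TopMod.IsDeduced A N) (u : M →L[A] N) :
    TopMod.IsFormallyLeftInvertible u ↔
      ∀ J : Ideal A, IsOpen (J : Set A) →
        ∃ w : N →ₗ[A] M ⧸ (J • ⊤ : Submodule A M), ∀ x : M, w (u x) = Submodule.Quotient.mk x := by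
  constructor
  · intro h J hJ
    letI : TopologicalSpace (M ⧸ (J • ⊤ : Submodule A M)) := ⊥
    haveI : DiscreteTopology (M ⧸ (J • ⊤ : Submodule A M)) := ⟨rfl⟩
    let v : M →L[A] M ⧸ (J • ⊤ : Submodule A M) :=
      ⟨Submodule.mkQ _, continuous_of_ker hM (Submodule.mkQ _).toAddMonoidHom hJ
        fun x hx => (Submodule.Quotient.mk_eq_zero _).2 hx⟩
    obtain ⟨w, hw⟩ := h (M ⧸ (J • ⊤ : Submodule A M)) v
    exact ⟨w.toLinearMap, hw⟩
  · intro h E _ _ _ _ v
    obtain ⟨J, hJ, hker⟩ := exists_open_of_continuous hM v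
    obtain ⟨w, hw⟩ := h J hJ
    let g := (Submodule.liftQ _ v.toLinearMap hker).comp w
    refine ⟨⟨g, continuous_of_ker hN g.toAddMonoidHom hJ fun y hy => ?_⟩, fun x => ?_⟩
    · show (Submodule.liftQ _ v.toLinearMap hker) (w y) = 0
      rw [kills_smul w (smul_quot_eq_bot J) y hy, map_zero]
    · show (Submodule.liftQ _ v.toLinearMap hker) (w (u x)) = v x
      rw [hw]
      rfl

theorem isDenseInducing_iff (hM : TopMod.IsDeduced A M) (hN : TopMod.IsDeduced A N) (u : M →L[A] N)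
    (hu : DenseRange u) :
    IsDenseInducing u ↔
      ∀ J : Ideal A, IsOpen (J : Set A) →
        (∀ x : M, u x ∈ (J • ⊤ : Submodule A N) → x ∈ (J • ⊤ : Submodule A M)) ∧
          ∀ y : N, ∃ x : M, y - u x ∈ (J • ⊤ : Submodule A N) := by
  haveI := hM.1
  haveI := hN.1
  have hsurj : ∀ J : Ideal A, IsOpen (J : Set A) → ∀ y : N, ∃ x : M, y - u x ∈ (J • ⊤ : Submodule A N) := by
    intro J hJ y
    have hopen : IsOpen ((fun z => y - z) ⁻¹' ((J • ⊤ : Submodule A N) : Set N)) :=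
      (isOpen_smul hN hJ).preimage (continuous_const.sub continuous_id)
    obtain ⟨x, hx⟩ := hu.exists_mem_open hopen ⟨y, by
      show y - y ∈ (J • ⊤ : Submodule A N)
      rw [sub_self]; exact zero_mem _⟩
    exact ⟨x, hx⟩
  constructor
  · intro h J hJ
    refine ⟨fun x hx => ?_, hsurj J hJ⟩
    have hmem : ((J • ⊤ : Submodule A M) : Set M) ∈ Filter.comap u (𝓝 (u 0)) := by
      rw [← h.toIsInducing.nhds_eq_comap]; exact mem_nhds hM hJ
    rw [map_zero] at hmem
    obtain ⟨J', hJ', hsub⟩ := (hN.2.comap u).mem_iff.1 hmem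
    have hle : (J • ⊤ : Submodule A N) ≤ (J • ⊤ : Submodule A M).map u.toLinearMap ⊔ (J' • ⊤ : Submodule A N) := by
      refine Submodule.smul_le.2 fun j hj n _ => ?_
      obtain ⟨m, hm⟩ := hsurj J' hJ' n
      rw [← add_sub_cancel (u m) n, smul_add]
      refine Submodule.add_mem_sup ⟨j • m, Submodule.smul_mem_smul hj trivial, ?_⟩ (Submodule.smul_mem _ j hm)
      exact map_smul u.toLinearMap j m
    obtain ⟨_, ⟨m, hm, rfl⟩, n', hn', he⟩ := Submodule.mem_sup.1 (hle hx)
    have h2 : x - m ∈ (J • ⊤ : Submodule A M) := hsub (by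
      show u (x - m) ∈ (J' • ⊤ : Submodule A N)
      rw [map_sub, ← he]
      simpa using hn')
    simpa using add_mem h2 hm
  · intro h
    refine ⟨⟨?_⟩, hu⟩
    letI : TopologicalSpace N := ‹TopologicalSpace N›
    refine IsTopologicalAddGroup.ext (G := M) inferInstance (topologicalAddGroup_induced u.toLinearMap.toAddMonoidHom) ?_
    have h0 : @nhds M (TopologicalSpace.induced u ‹_›) 0 = Filter.comap u (𝓝 0) := by
      rw [nhds_induced, map_zero]
    refine Eq.trans ?_ h0.symm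
    refine hM.2.eq_of_same_basis ?_
    refine (hN.2.comap u).congr (fun J => Iff.rfl) fun J hJ => ?_
    refine Set.ext fun x => ⟨(h J hJ).1 x, fun hx => ?_⟩
    have : u.toLinearMap x ∈ (J • (⊤ : Submodule A M)).map u.toLinearMap := ⟨x, hx, rfl⟩
    rw [Submodule.map_smul''] at this
    exact Submodule.smul_mono (le_refl J) le_top this

/-- Lifting a left inverse along a nilpotent ideal. -/
theorem exists_leftInverse_of_mod (hA : LinTop.IsPreadmissible A) (L : Ideal A)
    (hL : LinTop.IsIdealOfDefinition A L)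
    (hproj : ∀ J : Ideal A, IsOpen (J : Set A) → Module.Projective (A ⧸ J) (N ⧸ (J • (⊤ : Submodule A N))))
    (u : M →ₗ[A] N) (w₀ : N →ₗ[A] M ⧸ (L • ⊤ : Submodule A M)) (hw₀ : ∀ x : M, w₀ (u x) = Submodule.Quotient.mk x)
    (J : Ideal A) (hJ : IsOpen (J : Set A)) :
    ∃ w : N →ₗ[A] M ⧸ (J • ⊤ : Submodule A M), ∀ x : M, w (u x) = Submodule.Quotient.mk x := by
  obtain ⟨n, -, hn⟩ := hL.2 (J : Set A) (hJ.mem_nhds J.zero_mem)
  set Mb := M ⧸ (J • ⊤ : Submodule A M)
  set Nb := N ⧸ (J • ⊤ : Submodule A N)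
  let K : Submodule A Mb := L • ⊤
  have hle : (L • ⊤ : Submodule A M) ≤ K.comap (Submodule.mkQ _) := by
    rw [← Submodule.map_le_iff_le_comap, Submodule.map_smul'']
    exact Submodule.smul_mono (le_refl L) le_top
  let π : (M ⧸ (L • ⊤ : Submodule A M)) →ₗ[A] Mb ⧸ K := Submodule.mapQ _ _ (Submodule.mkQ _) hle
  have hJK : J • (⊤ : Submodule A (Mb ⧸ K)) = ⊥ := by
    rw [← Submodule.range_mkQ K, ← Submodule.map_top, ← Submodule.map_smul'', smul_quot_eq_bot, Submodule.map_bot]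
  have htor : Module.IsTorsionBySet A (Mb ⧸ K) (J : Set A) := fun x a => by
    have h : (a : A) • x ∈ J • (⊤ : Submodule A (Mb ⧸ K)) := Submodule.smul_mem_smul a.2 trivial
    simpa [hJK] using h
  letI : Module (A ⧸ J) (Mb ⧸ K) := htor.module
  haveI : IsScalarTower A (A ⧸ J) (Mb ⧸ K) := htor.isScalarTower
  let g : Nb →ₗ[A] Mb ⧸ K := Submodule.liftQ _ (π ∘ₗ w₀) fun y hy => kills_smul _ hJK y hy
  let g' : Nb →ₗ[A ⧸ J] Mb ⧸ K := g.extendScalarsOfSurjective Ideal.Quotient.mk_surjective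
  let p' : Mb →ₗ[A ⧸ J] Mb ⧸ K := (Submodule.mkQ K).extendScalarsOfSurjective Ideal.Quotient.mk_surjective
  haveI := hproj J hJ
  obtain ⟨h1, hh1⟩ := Module.projective_lifting_property p' g' (fun y => Submodule.mkQ_surjective K y)
  let w1 : Nb →ₗ[A] Mb := h1.restrictScalars A
  let ub : Mb →ₗ[A] Nb := Submodule.mapQ _ _ u (by
    rw [← Submodule.map_le_iff_le_comap, Submodule.map_smul'']
    exact Submodule.smul_mono (le_refl J) le_top)
  let ν : Module.End A Mb := 1 - w1 ∘ₗ ub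
  have hν : ∀ x, ν x ∈ K := fun x => by
    obtain ⟨m, rfl⟩ := Submodule.Quotient.mk_surjective _ x
    rw [← Submodule.Quotient.mk_eq_zero K]
    show Submodule.mkQ K (_ - w1 (ub _)) = 0
    rw [map_sub, sub_eq_zero]
    refine Eq.symm ((LinearMap.congr_fun hh1 _).trans ?_)
    show π (w₀ (u m)) = _
    rw [hw₀]
    rfl
  have hpow : ∀ k, ∀ x, (ν ^ k) x ∈ L ^ k • (⊤ : Submodule A Mb) := by
    intro k
    induction k with
    | zero => intro x; rw [pow_zero, pow_zero, Ideal.one_eq_top, Submodule.top_smul]; trivial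
    | succ k ih =>
      intro x
      rw [pow_succ (n := k) (a := ν), pow_succ' L, mul_smul]
      have h : (ν ^ k) (ν x) ∈ (K.map (ν ^ k)) := ⟨ν x, hν x, rfl⟩
      rw [Submodule.map_smul''] at h
      refine Submodule.smul_mono (le_refl L) ?_ h
      rintro _ ⟨y, -, rfl⟩
      exact ih y
  have hnil : IsNilpotent ν := ⟨n, LinearMap.ext fun x => by
    have h := Submodule.smul_mono_left (N := (⊤ : Submodule A Mb)) hn (hpow n x)
    rwa [smul_quot_eq_bot, Submodule.mem_bot] at h⟩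
  obtain ⟨φ, hφ⟩ := hnil.isUnit_one_sub
  refine ⟨(↑φ⁻¹ : Module.End A Mb) ∘ₗ w1 ∘ₗ Submodule.mkQ _, fun x => ?_⟩
  show (↑φ⁻¹ : Module.End A Mb) ((w1 ∘ₗ ub) (Submodule.Quotient.mk x)) = _
  have : w1 ∘ₗ ub = (φ : Module.End A Mb) := by rw [hφ, sub_sub_cancel]
  rw [this, ← Module.End.mul_apply, Units.inv_mul]
  rfl

theorem derCont_eq_top (A : Type u) (B : Type v) (L : Type w) [CommRing A] [CommRing B] [Algebra A B] [AddCommGroup L]
    [Module A L] [Module B L] [IsScalarTower A B L] [TopologicalSpace B] [IsTopologicalRing B]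
    [TopologicalSpace L] [DiscreteTopology L] [ContinuousAdd L] [ContinuousConstSMul B L]
    (hsq : ∀ I : Ideal B, IsOpen (I : Set B) → IsOpen ((I ^ 2 : Ideal B) : Set B))
    (K : Ideal B) (hK : IsOpen (K : Set B)) (hKL : ∀ x ∈ K, ∀ z : L, x • z = 0) :
    TopMod.DerCont A B L = ⊤ := by
  refine eq_top_iff.2 fun D _ => ?_
  show Continuous D
  refine continuous_of_continuousAt_zero D.toLinearMap.toAddMonoidHom ?_
  rw [ContinuousAt, map_zero, nhds_discrete L, Filter.tendsto_pure]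
  refine Filter.eventually_of_mem ((hsq K hK).mem_nhds (zero_mem _)) fun x hx => ?_
  rw [SetLike.mem_coe, pow_two] at hx
  show D x = 0
  induction hx using Submodule.mul_induction_on' with
  | mem_mul_mem a ha b hb => rw [D.leibniz, hKL a ha, hKL b hb, add_zero]
  | add a _ b _ ha hb => rw [map_add, ha, hb, add_zero]

end Groth.Agent.TopModLib
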