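import Groth.Agent.TopModLib.Basic

/-! Left inverses into complete modules with a countable system of open ideals. -/

set_option autoImplicit false

universe u v w

open scoped Topology

namespace Groth.Agent.TopModLib

variable {A : Type u} [CommRing A] [TopologicalSpace A] {M : Type v} [AddCommGroup M] [Module A M]
  [UniformSpace M] [IsUniformAddGroup M] [CompleteSpace M] [T2Space M]
  {N : Type w} [AddCommGroup N] [Module A N] [TopologicalSpace N]

theorem exists_leftInverse (𝔍 : ℕ → Ideal A) (h𝔍open : ∀ n, IsOpen (𝔍 n : Set A)) (h𝔍anti : Antitone 𝔍)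
    (h𝔍basis : (𝓝 (0 : A)).HasBasis (fun _ : ℕ => True) (fun n => (𝔍 n : Set A)))
    (hM : TopMod.IsDeduced A M) (u : M →ₗ[A] N)
    (hcoker : ∀ n, Module.Projective (A ⧸ 𝔍 n)
      ((N ⧸ LinearMap.range u) ⧸ (𝔍 n • (⊤ : Submodule A (N ⧸ LinearMap.range u)))))
    (hex : ∀ J : Ideal A, IsOpen (J : Set A) →
      ∃ w : N →ₗ[A] M ⧸ (J • ⊤ : Submodule A M), ∀ x : M, w (u x) = Submodule.Quotient.mk x) :
    ∃ w : N →ₗ[A] M, ∀ x : M, w (u x) = x := by
  let P : ℕ → Submodule A M := fun n => 𝔍 n • ⊤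
  have hP : Antitone P := fun a b h => Submodule.smul_mono_left (h𝔍anti h)
  let red : ∀ n, (M ⧸ P (n + 1)) →ₗ[A] M ⧸ P n := fun n =>
    Submodule.mapQ _ _ LinearMap.id (fun x hx => hP (Nat.le_succ n) hx)
  have step : ∀ n, ∀ w : N →ₗ[A] M ⧸ P n, (∀ x, w (u x) = Submodule.Quotient.mk x) →
      ∃ w' : N →ₗ[A] M ⧸ P (n + 1), (∀ x, w' (u x) = Submodule.Quotient.mk x) ∧ red n ∘ₗ w' = w := by
    intro n w hw
    set J := 𝔍 (n + 1) with hJ
    obtain ⟨w0, hw0⟩ := hex J (h𝔍open (n + 1))
    let C := N ⧸ LinearMap.range u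
    let d : C →ₗ[A] M ⧸ P n := Submodule.liftQ _ (w - red n ∘ₗ w0) (by
      rintro _ ⟨x, rfl⟩
      rw [LinearMap.mem_ker, LinearMap.sub_apply, LinearMap.comp_apply, hw, hw0]
      exact sub_self _)
    have hJP : J • (⊤ : Submodule A (M ⧸ P n)) = ⊥ :=
      le_bot_iff.1 ((Submodule.smul_mono_left (h𝔍anti (Nat.le_succ n))).trans (smul_quot_eq_bot _).le)
    have htor : Module.IsTorsionBySet A (M ⧸ P n) (J : Set A) := fun x a => by
      have h : (a : A) • x ∈ J • (⊤ : Submodule A (M ⧸ P n)) := Submodule.smul_mem_smul a.2 trivial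
      simpa [hJP] using h
    letI : Module (A ⧸ J) (M ⧸ P n) := htor.module
    haveI : IsScalarTower A (A ⧸ J) (M ⧸ P n) := htor.isScalarTower
    let d' : (C ⧸ (J • (⊤ : Submodule A C))) →ₗ[A ⧸ J] M ⧸ P n :=
      (Submodule.liftQ _ d fun y hy => kills_smul d hJP y hy).extendScalarsOfSurjective Ideal.Quotient.mk_surjective
    let red' : (M ⧸ (J • ⊤ : Submodule A M)) →ₗ[A ⧸ J] M ⧸ P n :=
      (red n).extendScalarsOfSurjective Ideal.Quotient.mk_surjective
    have hsurj : Function.Surjective red' := fun y => by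
      obtain ⟨x, rfl⟩ := Submodule.Quotient.mk_surjective _ y
      exact ⟨Submodule.Quotient.mk x, rfl⟩
    haveI := hcoker (n + 1)
    obtain ⟨h1, hh1⟩ := Module.projective_lifting_property red' d' hsurj
    refine ⟨w0 + (h1.restrictScalars A) ∘ₗ Submodule.mkQ _ ∘ₗ Submodule.mkQ _, fun x => ?_, LinearMap.ext fun y => ?_⟩
    · rw [LinearMap.add_apply, hw0, LinearMap.comp_apply, LinearMap.comp_apply,
        show Submodule.mkQ (LinearMap.range u) (u x) = 0 from (Submodule.Quotient.mk_eq_zero _).2 ⟨x, rfl⟩,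
        map_zero, map_zero, add_zero]
    · show red n (w0 y + h1 _) = w y
      rw [map_add]
      have := LinearMap.congr_fun hh1 (Submodule.Quotient.mk (Submodule.Quotient.mk y))
      change red n (h1 _) = _ at this
      refine (congrArg (red n (w0 y) + ·) this).trans ?_
      show red n (w0 y) + (w y - red n (w0 y)) = w y
      rw [add_sub_cancel]
  choose f hf1 hf2 using step
  obtain ⟨g0, hg0⟩ := hex _ (h𝔍open 0)
  let seq : ∀ n, {w : N →ₗ[A] M ⧸ P n // ∀ x, w (u x) = Submodule.Quotient.mk x} := fun n =>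
    Nat.rec (motive := fun n => {w : N →ₗ[A] M ⧸ P n // ∀ x, w (u x) = Submodule.Quotient.mk x})
      ⟨g0, hg0⟩ (fun n w => ⟨f n w.1 w.2, hf1 n w.1 w.2⟩) n
  have hseq : ∀ n, red n ∘ₗ (seq (n + 1)).1 = (seq n).1 := fun n => hf2 n _ _
  have hbasis : (𝓝 (0 : M)).HasBasis (fun _ : ℕ => True) (fun n => (P n : Set M)) := by
    refine ⟨fun U => ⟨fun hU => ?_, fun ⟨n, _, hn⟩ => Filter.mem_of_superset (mem_nhds hM (h𝔍open n)) hn⟩⟩
    obtain ⟨J, hJ, hsub⟩ := hM.2.mem_iff.1 hU
    obtain ⟨n, -, hn⟩ := h𝔍basis.mem_iff.1 (hJ.mem_nhds J.zero_mem)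
    exact ⟨n, trivial, fun x hx => hsub (Submodule.smul_mono_left hn hx)⟩
  have key : ∀ y : N, ∃! m : M, ∀ n, Submodule.Quotient.mk m = (seq n).1 y := by
    intro y
    choose r hr using fun n => Submodule.Quotient.mk_surjective _ ((seq n).1 y)
    have hsucc : ∀ n, r (n + 1) - r n ∈ P n := fun n => by
      rw [← Submodule.Quotient.eq, hr n, ← hseq n, LinearMap.comp_apply, ← hr (n + 1)]
      rfl
    have hcau : ∀ n k, r (n + k) - r n ∈ P n := by
      intro n k
      induction k with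
      | zero => simp
      | succ k ih =>
        have := add_mem (hP (Nat.le_add_right n k) (hsucc (n + k))) ih
        rwa [sub_add_sub_cancel] at this
    have hC : CauchySeq r := by
      refine ((uniformity_eq_comap_nhds_zero M) ▸ hbasis.comap _).cauchySeq_iff'.2 ?_
      intro n _
      refine ⟨n, fun k hk => ?_⟩
      show r n - r k ∈ P n
      rw [← neg_sub]
      exact neg_mem (by simpa [Nat.add_sub_cancel' hk] using hcau n (k - n))
    obtain ⟨m, hm⟩ := cauchySeq_tendsto_of_complete hC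
    have hclosed : ∀ n, IsClosed (P n : Set M) := fun n =>
      AddSubgroup.isClosed_of_isOpen (P n).toAddSubgroup (isOpen_smul hM (h𝔍open n))
    refine ⟨m, fun n => ?_, fun m' hm' => ?_⟩
    · rw [← hr n, Submodule.Quotient.eq]
      refine (hclosed n).mem_of_tendsto (hm.sub_const (r n)) (Filter.eventually_atTop.2 ⟨n, fun k hk => ?_⟩)
      simpa [Nat.add_sub_cancel' hk] using hcau n (k - n)
    · have h0 : ∀ n, m' - r n ∈ P n := fun n => (Submodule.Quotient.eq _).1 ((hm' n).trans (hr n).symm)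
      refine tendsto_nhds_unique (l := Filter.atTop) ?_ hm
      rw [← tendsto_sub_nhds_zero_iff, hbasis.tendsto_right_iff]
      intro n _
      refine Filter.eventually_atTop.2 ⟨n, fun k hk => ?_⟩
      have := hP hk (h0 k)
      simpa using neg_mem this
  choose w hw huniq using key
  exact ⟨{ toFun := w
           map_add' := fun a b => (huniq (a + b) _ fun n => by
             rw [Submodule.Quotient.mk_add, hw a n, hw b n, map_add]).symm
           map_smul' := fun c a => (huniq (c • a) _ fun n => by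
             rw [RingHom.id_apply, Submodule.Quotient.mk_smul, hw a n, map_smul]).symm },
    fun x => (huniq (u x) x fun n => ((seq n).2 x).symm).symm⟩

theorem projective_coker (u : M →ₗ[A] N) (J : Ideal A)
    (hN : Module.Projective (A ⧸ J) (N ⧸ (J • (⊤ : Submodule A N))))
    (w : N →ₗ[A] M ⧸ (J • ⊤ : Submodule A M)) (hw : ∀ x : M, w (u x) = Submodule.Quotient.mk x) :
    Module.Projective (A ⧸ J) ((N ⧸ LinearMap.range u) ⧸ (J • (⊤ : Submodule A (N ⧸ LinearMap.range u)))) := by
  let C := N ⧸ LinearMap.range u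
  let Cb := C ⧸ (J • (⊤ : Submodule A C))
  let p : (N ⧸ (J • (⊤ : Submodule A N))) →ₗ[A] Cb :=
    Submodule.mapQ _ _ (Submodule.mkQ _) (by
      rw [← Submodule.map_le_iff_le_comap, Submodule.map_smul'']
      exact Submodule.smul_mono (le_refl J) le_top)
  let ub : (M ⧸ (J • ⊤ : Submodule A M)) →ₗ[A] N ⧸ (J • (⊤ : Submodule A N)) := Submodule.mapQ _ _ u (by
    rw [← Submodule.map_le_iff_le_comap, Submodule.map_smul'']
    exact Submodule.smul_mono (le_refl J) le_top)
  let q : N →ₗ[A] N ⧸ (J • (⊤ : Submodule A N)) := Submodule.mkQ _ - ub ∘ₗ w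
  let s₀ : C →ₗ[A] N ⧸ (J • (⊤ : Submodule A N)) := Submodule.liftQ _ q (by
    rintro _ ⟨x, rfl⟩
    show Submodule.Quotient.mk (u x) - ub (w (u x)) = 0
    rw [hw]
    exact sub_self _)
  let s : Cb →ₗ[A] N ⧸ (J • (⊤ : Submodule A N)) :=
    Submodule.liftQ _ s₀ fun y hy => kills_smul s₀ (smul_quot_eq_bot J) y hy
  refine Module.Projective.of_split (s.extendScalarsOfSurjective Ideal.Quotient.mk_surjective)
    (p.extendScalarsOfSurjective Ideal.Quotient.mk_surjective) (LinearMap.ext fun c => ?_)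
  obtain ⟨c, rfl⟩ := Submodule.Quotient.mk_surjective _ c
  obtain ⟨y, rfl⟩ := Submodule.Quotient.mk_surjective _ c
  show p (Submodule.Quotient.mk y - ub (w y)) = _
  rw [map_sub]
  have : p (ub (w y)) = 0 := by
    obtain ⟨m, hm⟩ := Submodule.Quotient.mk_surjective _ (w y)
    rw [← hm]
    show Submodule.Quotient.mk (Submodule.Quotient.mk (u m)) = 0
    rw [(Submodule.Quotient.mk_eq_zero (LinearMap.range u)).2 ⟨m, rfl⟩, Submodule.Quotient.mk_zero]
  rw [this, sub_zero]
  rfl

end Groth.Agent.TopModLib
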